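import Cfsg.Agent.H954.LD.Row
import Cfsg.Agent.H417.DegMTwentyTwo
import Cfsg.Agent.SporadicA.MathieuRecog
import Cfsg.Agent.H489.OutSpor

/-!
# S4910: the row `M22` (helper569)

The degrees `21` and `55` occur once (H417).
-/

set_option autoImplicit false

namespace Cfsg.Agent.H569.LD

open Cfsg Cfsg.Agent.H954.LD

universe u

/-- the list of degrees -/
def D : Fin 12 → ℕ := fun i => Cfsg.Agent.M22.DegreesEnd.LB.getD i 0

theorem isM22 {S : Type u} [Group S] (h : Cfsg.Spor.IsoM22 S) : Cfsg.IsM22 S := by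
  obtain ⟨e⟩ := h
  have h1 := Cfsg.Agent.SporadicA.MathieuRecog.simple_M22
  exact ⟨e.isSimpleGroup, by rw [Nat.card_congr e.toEquiv, Cfsg.Agent.SporadicA.MathieuRecog.card_M22]⟩

/-- **S4910, row `M22`** -/
theorem row_M22 {S : Type u} [Group S] [Finite S] [IsSimpleGroup S] (hna : ¬ IsMulCommutative S) (h : Spor.IsoM22 S) :
    Cfsg.Agent.H954.LD.CopRow S := by
  obtain ⟨f, hf⟩ := Cfsg.Agent.H417.DegMTwentyTwo.exists_enum (isM22 h)
  have hf' : ∀ i, charDegree (f i : S → ℂ) = D i := hf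
  have key : ∀ i : Fin 12, (i = 1 ∨ i = 4) → ∀ ψ : IrrCharacter S, charDegree (ψ : S → ℂ) = charDegree (f i : S → ℂ) → ψ = f i := by
    intro i hi ψ hψ
    obtain ⟨j, rfl⟩ := f.surjective ψ
    rw [hf', hf'] at hψ
    have hD : ∀ i : Fin 12, (i = 1 ∨ i = 4) → ∀ j, D j = D i → j = i := by decide
    rw [hD i hi j hψ]
  have h21 : charDegree (f 1 : S → ℂ) = 21 := hf' 1
  have h55 : charDegree (f 4 : S → ℂ) = 55 := hf' 4
  refine copRow_unique hna ?_ (α := f 1) (β := f 4) ?_ ?_ ?_ (key 1 (.inl rfl)) (key 4 (.inr rfl))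
  · exact Cfsg.Agent.H489.card_out_sporadic (Or.inr (Or.inr (Or.inl h)))
  · rw [h21]; norm_num
  · rw [h55]; norm_num
  · rw [h21, h55]; norm_num

end Cfsg.Agent.H569.LD
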